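import Mathlib
import Groth.Agent.Unibranch.Noether

/-!
# Noether normalisation of a fibre by a map to affine space
-/

set_option autoImplicit false
set_option linter.style.haveILetI false
universe u

open TensorProduct

namespace Groth.Agent.FibNoether

/-- Clearing denominators in a fibre over a point-like field. -/
theorem exists_smul_eq {R S L : Type u} [CommRing R] [CommRing S] [Field L] [Algebra R S] [Algebra R L]
    (hL : (algebraMap R L).SurjectiveOnStalks) (z : L ⊗[R] S) :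
    ∃ (l : L) (a : S), l ≠ 0 ∧ l • z = (1 : L) ⊗ₜ[R] a := by
  obtain ⟨t, r, a, hr, he⟩ := hL.exists_mul_eq_tmul (Algebra.TensorProduct.comm R L S z) ⊥ Ideal.isPrime_bot
  have hrt : r • t ≠ 0 := fun h => hr (by rw [h]; exact Submodule.zero_mem _)
  have ht : t ≠ 0 := fun h => hrt (by rw [h, smul_zero])
  refine ⟨t⁻¹ * (r • t), a, mul_ne_zero (inv_ne_zero ht) hrt, ?_⟩
  have h := congrArg (Algebra.TensorProduct.comm R L S).symm he
  rw [map_mul, AlgEquiv.symm_apply_apply, Algebra.TensorProduct.comm_symm_tmul,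
    Algebra.TensorProduct.comm_symm_tmul] at h
  rw [Algebra.smul_def, Algebra.TensorProduct.algebraMap_apply, Algebra.algebraMap_self, RingHom.id_apply]
  calc (t⁻¹ * (r • t)) ⊗ₜ[R] (1 : S) * z = (t⁻¹ ⊗ₜ[R] (1 : S)) * (((r • t) ⊗ₜ[R] (1 : S)) * z) := by
        rw [← mul_assoc, Algebra.TensorProduct.tmul_mul_tmul, one_mul]
    _ = (t⁻¹ ⊗ₜ[R] (1 : S)) * (t ⊗ₜ[R] a) := by rw [h]
    _ = 1 ⊗ₜ[R] a := by rw [Algebra.TensorProduct.tmul_mul_tmul, one_mul, inv_mul_cancel₀ ht]

/-- Finitely generated algebras: some elements make the fibre finite over the fibre of affine space. -/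
theorem exists_aeval_finite {R S L : Type u} [CommRing R] [CommRing S] [Field L] [Algebra R S]
    [Algebra.FiniteType R S] [Algebra R L] (hL : (algebraMap R L).SurjectiveOnStalks) (e : ℕ)
    (he : ringKrullDim (L ⊗[R] S) ≤ (e : WithBot ℕ∞)) (hne : Nontrivial (L ⊗[R] S)) :
    ∃ t : ULift.{u} (Fin e) → S,
      (Algebra.TensorProduct.map (AlgHom.id R L) (MvPolynomial.aeval (R := R) t)).toRingHom.Finite := by
  obtain ⟨s, g, hgi, hgf⟩ := exists_finite_inj_algHom_of_fg L (L ⊗[R] S)
  have hs : s ≤ e := by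
    have h : (s : WithBot ℕ∞) ≤ (e : WithBot ℕ∞) := by
      rw [← Unibranch.ringKrullDim_eq_of_finite_inj g hgi hgf]
      exact he
    exact_mod_cast h
  choose l a hl ha using fun i : Fin s => exists_smul_eq hL (g (MvPolynomial.X i))
  let t : ULift.{u} (Fin e) → S := fun i => if h : (i.down : ℕ) < s then a ⟨i.down, h⟩ else 0
  refine ⟨t, ?_⟩
  let Φ : L ⊗[R] MvPolynomial (ULift.{u} (Fin e)) R →ₐ[L] L ⊗[R] S :=
    Algebra.TensorProduct.map (AlgHom.id L L) (MvPolynomial.aeval (R := R) t)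
  show Φ.toRingHom.Finite
  let σ : MvPolynomial (Fin s) L →ₐ[L] L ⊗[R] MvPolynomial (ULift.{u} (Fin e)) R :=
    MvPolynomial.aeval fun i => (l i)⁻¹ • ((1 : L) ⊗ₜ[R] MvPolynomial.X (ULift.up (Fin.castLE hs i)))
  have hcomp : Φ.comp σ = g := by
    refine MvPolynomial.algHom_ext fun i => ?_
    rw [AlgHom.comp_apply, MvPolynomial.aeval_X, map_smul, Algebra.TensorProduct.map_tmul, AlgHom.id_apply,
      MvPolynomial.aeval_X]
    have ht : t (ULift.up (Fin.castLE hs i)) = a i := dif_pos i.2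
    rw [ht, ← ha, smul_smul, inv_mul_cancel₀ (hl i), one_smul]
  refine RingHom.Finite.of_comp_finite (f := σ.toRingHom) ?_
  rw [show Φ.toRingHom.comp σ.toRingHom = g.toRingHom from congrArg AlgHom.toRingHom hcomp]
  exact hgf

end Groth.Agent.FibNoether
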